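import Mathlib

/-!
A lattice lemma: a lattice `ℤ^k + ℤ c` avoiding the open ball `|v|² < v₁` has a first coordinate
of bounded denominator.
-/

set_option autoImplicit false

open Filter Topology

namespace Cfsg.Lib.BP21

theorem closed_countable {E : Type*} [NormedAddCommGroup E] [NormedSpace ℝ E]
    [FiniteDimensional ℝ E] (H : AddSubgroup E) (hH : IsClosed (H : Set E)) (φ : E →ₗ[ℝ] ℝ)
    (Q : E → ℝ) (hQ : ∀ (t : ℝ) (x : E), Q (t • x) = t ^ 2 * Q x) (h : ∀ x ∈ H, φ x ≤ Q x) :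
    (φ '' (H : Set E)).Countable := by
  let V : Submodule ℝ E :=
    { carrier := {v | ∀ t : ℝ, t • v ∈ H}
      add_mem' := fun {a b} ha hb t => by
        rw [smul_add]
        exact H.add_mem (ha t) (hb t)
      zero_mem' := fun t => by
        rw [smul_zero]
        exact H.zero_mem
      smul_mem' := fun s a ha t => by
        rw [smul_smul]
        exact ha _ }
  have hV : ∀ v ∈ V, φ v = 0 := by
    intro v hv
    by_contra hne
    have hs : 0 < (|Q v| + 1)⁻¹ := by positivity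
    have h1 := h _ (hv (φ v * (|Q v| + 1)⁻¹))
    rw [map_smul, hQ, smul_eq_mul] at h1
    have h2 : 0 < φ v ^ 2 := by positivity
    have h3 : (|Q v| + 1)⁻¹ * Q v < 1 := by
      rw [inv_mul_lt_iff₀ (by positivity)]
      linarith [le_abs_self (Q v)]
    have h4 : 0 < φ v ^ 2 * (|Q v| + 1)⁻¹ := mul_pos h2 hs
    nlinarith
  obtain ⟨W, hW⟩ := V.exists_isCompl
  have hsep : ∃ ε : ℝ, 0 < ε ∧ ∀ d ∈ H, d ∈ W → ‖d‖ < ε → d = 0 := by
    by_contra hcon
    push Not at hcon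
    have hd : ∀ n : ℕ, ∃ d ∈ H, d ∈ W ∧ ‖d‖ < 1 / ((n : ℝ) + 1) ∧ d ≠ 0 := fun n =>
      hcon _ (by positivity)
    choose d hdH hdW hdn hd0 using hd
    have hpos : ∀ n, 0 < ‖d n‖ := fun n => norm_pos_iff.2 (hd0 n)
    have hK : IsCompact (Metric.sphere (0 : E) 1 ∩ (W : Set E)) :=
      (isCompact_sphere 0 1).inter_right W.closed_of_finiteDimensional
    have hu : ∀ n, ‖d n‖⁻¹ • d n ∈ Metric.sphere (0 : E) 1 ∩ (W : Set E) := fun n =>
      ⟨by simp [norm_smul, (hpos n).ne'], W.smul_mem _ (hdW n)⟩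
    obtain ⟨w, hw, ψ, hψ, hlim⟩ := hK.tendsto_subseq hu
    have hr : Tendsto (fun n => ‖d (ψ n)‖) atTop (𝓝 0) := by
      have h1 : Tendsto (fun n => ‖d n‖) atTop (𝓝 0) :=
        squeeze_zero (fun n => norm_nonneg _) (fun n => (hdn n).le)
          tendsto_one_div_add_atTop_nhds_zero_nat
      exact h1.comp hψ.tendsto_atTop
    have hwV : w ∈ V := by
      intro t
      have h1 : Tendsto (fun n => ((⌊t / ‖d (ψ n)‖⌋ : ℤ) : ℝ) * ‖d (ψ n)‖) atTop (𝓝 t) := by
        rw [tendsto_iff_norm_sub_tendsto_zero]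
        refine squeeze_zero (fun n => norm_nonneg _) (fun n => ?_) hr
        have h2 := Int.floor_le (t / ‖d (ψ n)‖)
        have h3 := Int.lt_floor_add_one (t / ‖d (ψ n)‖)
        rw [le_div_iff₀ (hpos _)] at h2
        rw [div_lt_iff₀ (hpos _)] at h3
        rw [Real.norm_eq_abs, abs_le]
        constructor <;> nlinarith [hpos (ψ n)]
      have h2 := h1.smul hlim
      refine hH.mem_of_tendsto h2 (Eventually.of_forall fun n => ?_)
      have h3 : (((⌊t / ‖d (ψ n)‖⌋ : ℤ) : ℝ) * ‖d (ψ n)‖) • ‖d (ψ n)‖⁻¹ • d (ψ n) =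
          (⌊t / ‖d (ψ n)‖⌋ : ℤ) • d (ψ n) := by
        rw [smul_smul, mul_assoc, mul_inv_cancel₀ (hpos _).ne', mul_one, Int.cast_smul_eq_zsmul]
      change (((⌊t / ‖d (ψ n)‖⌋ : ℤ) : ℝ) * ‖d (ψ n)‖) • ‖d (ψ n)‖⁻¹ • d (ψ n) ∈ H
      rw [h3]
      exact H.zsmul_mem (hdH _) _
    have h0 : w = 0 := by
      have : w ∈ V ⊓ W := ⟨hwV, hw.2⟩
      rwa [hW.inf_eq_bot, Submodule.mem_bot] at this
    have := hw.1
    rw [h0] at this
    simp at this
  obtain ⟨ε, hε, hsep⟩ := hsep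
  have hD : ((H : Set E) ∩ (W : Set E)).Countable := by
    refine Set.PairwiseDisjoint.countable_of_isOpen (s := fun d => Metric.ball d (ε / 2)) ?_
      (fun _ _ => Metric.isOpen_ball) (fun d _ => ⟨d, Metric.mem_ball_self (by positivity)⟩)
    intro a ha b hb hab
    rw [Function.onFun, Set.disjoint_left]
    intro x hxa hxb
    apply hab
    rw [← sub_eq_zero]
    refine hsep _ (H.sub_mem ha.1 hb.1) (W.sub_mem ha.2 hb.2) ?_
    rw [← dist_eq_norm]
    rw [Metric.mem_ball] at hxa hxb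
    linarith [dist_triangle_left a b x]
  refine (hD.image φ).mono ?_
  rintro _ ⟨x, hx, rfl⟩
  have hx' : x ∈ V ⊔ W := by rw [hW.sup_eq_top]; trivial
  obtain ⟨v, hv, w, hw, rfl⟩ := Submodule.mem_sup.1 hx'
  have hvH : v ∈ H := by simpa using hv 1
  refine ⟨w, ⟨?_, hw⟩, ?_⟩
  · have := H.sub_mem hx hvH
    simpa using this
  · rw [map_add, hV v hv, zero_add]

theorem approx (r : ℚ) (y : ℝ) : ∃ t b : ℤ, |(t : ℝ) * r + b - y| ≤ 1 / (r.den : ℝ) := by
  have hc : IsCoprime r.num (r.den : ℤ) := by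
    rw [Int.isCoprime_iff_gcd_eq_one]
    exact r.reduced
  obtain ⟨a, b, hab⟩ := hc
  have hd : (0 : ℝ) < r.den := by exact_mod_cast r.den_pos
  have h1 : (a : ℝ) * r + b = 1 / (r.den : ℝ) := by
    have h2 : (r : ℝ) = r.num / r.den := by exact_mod_cast (Rat.num_div_den r).symm
    have h3 : (a : ℝ) * r.num + b * r.den = 1 := by exact_mod_cast hab
    rw [h2]
    field_simp
    linarith
  refine ⟨⌊y * r.den⌋ * a, ⌊y * r.den⌋ * b, ?_⟩
  have h4 : ((⌊y * r.den⌋ * a : ℤ) : ℝ) * r + ((⌊y * r.den⌋ * b : ℤ) : ℝ) - y =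
      ((⌊y * r.den⌋ : ℤ) - y * r.den) / r.den := by
    push_cast
    rw [mul_assoc, ← mul_add, h1]
    field_simp
  rw [h4, abs_div, abs_of_pos hd]
  refine div_le_div_of_nonneg_right ?_ hd.le
  rw [abs_le]
  constructor <;> linarith [Int.floor_le (y * r.den), Int.lt_floor_add_one (y * r.den)]

theorem lat (k : ℕ) : ∃ N : ℕ, ∀ (r : ℚ) (c : Fin k → ℝ),
    (∀ (t b₀ : ℤ) (b : Fin k → ℤ),
      (t : ℝ) * r + b₀ ≤ ((t : ℝ) * r + b₀) ^ 2 + ∑ i, ((t : ℝ) * c i + b i) ^ 2) →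
    r.den ≤ N := by
  by_contra hcon
  push Not at hcon
  choose r c hrc hden using hcon
  let U : Ultrafilter ℕ := Ultrafilter.of atTop
  have hU : (U : Filter ℕ) ≤ atTop := Ultrafilter.of_le _
  let Λ : ℕ → Set (ℝ × (Fin k → ℝ)) := fun n =>
    {x | ∃ (t b₀ : ℤ) (b : Fin k → ℤ), x = ((t : ℝ) * r n + b₀, fun i => (t : ℝ) * c n i + b i)}
  let H : AddSubgroup (ℝ × (Fin k → ℝ)) :=
    { carrier := {x | ∀ ε : ℝ, 0 < ε → ∀ᶠ n in (U : Filter ℕ), ∃ v ∈ Λ n, dist v x < ε}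
      add_mem' := fun {x y} hx hy ε hε => by
        filter_upwards [hx (ε / 2) (by positivity), hy (ε / 2) (by positivity)] with n h1 h2
        obtain ⟨_, ⟨t, b₀, b, rfl⟩, h1⟩ := h1
        obtain ⟨_, ⟨t', b₀', b', rfl⟩, h2⟩ := h2
        refine ⟨_, ⟨t + t', b₀ + b₀', b + b', rfl⟩, ?_⟩
        refine lt_of_eq_of_lt ?_ ((dist_add_add_le _ _ _ _).trans_lt
          ((add_lt_add h1 h2).trans_eq (add_halves ε)))
        congr 1
        ext <;> simp <;> ring
      zero_mem' := fun ε hε => Eventually.of_forall fun n =>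
        ⟨0, ⟨0, 0, 0, by ext <;> simp⟩, by simpa using hε⟩
      neg_mem' := fun {x} hx ε hε => by
        filter_upwards [hx ε hε] with n h1
        obtain ⟨_, ⟨t, b₀, b, rfl⟩, h1⟩ := h1
        refine ⟨_, ⟨-t, -b₀, -b, rfl⟩, ?_⟩
        rw [← dist_neg_neg] at h1
        refine lt_of_eq_of_lt ?_ h1
        congr 1
        ext <;> simp <;> ring }
  have hH : IsClosed (H : Set (ℝ × (Fin k → ℝ))) := by
    refine isClosed_of_closure_subset fun x hx ε hε => ?_
    obtain ⟨y, hy, hxy⟩ := Metric.mem_closure_iff.1 hx (ε / 2) (by positivity)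
    filter_upwards [hy (ε / 2) (by positivity)] with n h1
    obtain ⟨v, hv, h1⟩ := h1
    exact ⟨v, hv, by linarith [dist_triangle_right v x y]⟩
  let Q : ℝ × (Fin k → ℝ) → ℝ := fun x => x.1 ^ 2 + ∑ i, x.2 i ^ 2
  have hQc : Continuous Q := by fun_prop
  have hle : ∀ x ∈ H, LinearMap.fst ℝ ℝ (Fin k → ℝ) x ≤ Q x := by
    intro x hx
    have hcl : IsClosed {x : ℝ × (Fin k → ℝ) | x.1 ≤ Q x} := isClosed_le continuous_fst hQc
    have : x ∈ closure {x : ℝ × (Fin k → ℝ) | x.1 ≤ Q x} := by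
      rw [Metric.mem_closure_iff]
      intro ε hε
      obtain ⟨n, _, ⟨t, b₀, b, rfl⟩, h1⟩ := (hx ε hε).exists
      exact ⟨_, hrc n t b₀ b, by rwa [dist_comm]⟩
    rwa [hcl.closure_eq] at this
  have hc := closed_countable H hH (LinearMap.fst ℝ ℝ (Fin k → ℝ)) Q (fun t x => by
    simp only [Q, Prod.smul_fst, Prod.smul_snd, Pi.smul_apply, smul_eq_mul, mul_pow, mul_add,
      Finset.mul_sum]) hle
  refine Set.not_countable_univ (hc.mono fun y _ => ?_)
  choose t b₀ htb using fun n => approx (r n) y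
  let v : ℕ → ℝ × (Fin k → ℝ) := fun n =>
    ((t n : ℝ) * r n + b₀ n, fun i => (t n : ℝ) * c n i + ((-⌊(t n : ℝ) * c n i⌋ : ℤ) : ℝ))
  have hvΛ : ∀ n, v n ∈ Λ n := fun n => ⟨t n, b₀ n, fun i => -⌊(t n : ℝ) * c n i⌋, rfl⟩
  have hd1 : ∀ n : ℕ, 1 / ((r n).den : ℝ) ≤ 1 / ((n : ℝ) + 1) := fun n =>
    one_div_le_one_div_of_le (by positivity) (by exact_mod_cast hden n)
  have hvK : ∀ n, v n ∈ Metric.closedBall ((y, 0) : ℝ × (Fin k → ℝ)) 1 := by
    intro n
    rw [Metric.mem_closedBall, Prod.dist_eq, max_le_iff, dist_pi_le_iff zero_le_one]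
    refine ⟨?_, fun i => ?_⟩
    · rw [Real.dist_eq]
      refine ((htb n).trans (hd1 n)).trans ?_
      rw [div_le_one (by positivity)]
      linarith [Nat.cast_nonneg (α := ℝ) n]
    · simp only [v, Pi.zero_apply, dist_zero_right, Real.norm_eq_abs, abs_le, Int.cast_neg]
      constructor <;>
        linarith [Int.floor_le ((t n : ℝ) * c n i), Int.lt_floor_add_one ((t n : ℝ) * c n i)]
  obtain ⟨x, -, hx⟩ := (isCompact_closedBall ((y, 0) : ℝ × (Fin k → ℝ)) 1).ultrafilter_le_nhds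
    (U.map v) (by
      rw [le_principal_iff, Ultrafilter.coe_map, mem_map]
      exact Eventually.of_forall hvK)
  have hx' : Tendsto v (U : Filter ℕ) (𝓝 x) := hx
  refine ⟨x, fun ε hε => ?_, ?_⟩
  · filter_upwards [Metric.tendsto_nhds.1 hx' ε hε] with n hn
    exact ⟨v n, hvΛ n, hn⟩
  · have h1 : Tendsto (fun n => (v n).1) (U : Filter ℕ) (𝓝 x.1) :=
      (continuous_fst.tendsto x).comp hx'
    have h2 : Tendsto (fun n => (v n).1) atTop (𝓝 y) := by
      rw [tendsto_iff_norm_sub_tendsto_zero]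
      exact squeeze_zero (fun n => norm_nonneg _) (fun n => (htb n).trans (hd1 n))
        tendsto_one_div_add_atTop_nhds_zero_nat
    exact tendsto_nhds_unique h1 (h2.mono_left hU)

end Cfsg.Lib.BP21
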